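import Groth.Agent.Lib.LocProp.AtPrime

/-!
# Descent of étaleness along flat formally étale maps, and an Artin–Rees consequence
-/

set_option autoImplicit false

universe u

open TensorProduct

namespace GrothLib.InvEtale1

/-- The contraction of a high power is contained in a given power, for a submodule. -/
theorem exists_inf_pow_smul_le {R M : Type u} [CommRing R] [AddCommGroup M] [Module R M]
    [IsNoetherianRing R] [Module.Finite R M] (J : Ideal R) (N : Submodule R M) (n : ℕ) :
    ∃ m, N ⊓ J ^ m • (⊤ : Submodule R M) ≤ J ^ n • N := by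
  obtain ⟨c, hc⟩ := J.exists_pow_inf_eq_pow_smul N
  refine ⟨c + n, ?_⟩
  rw [inf_comm, hc (c + n) (Nat.le_add_right c n), Nat.add_sub_cancel_left]
  exact Submodule.smul_mono le_rfl inf_le_right

/-- Étaleness descends along a flat formally étale neighbourhood. -/
theorem isEtaleAt_of_tower {R A T : Type u} [CommRing R] [CommRing A] [CommRing T] [Algebra R A]
    [Algebra R T] [Algebra A T] [IsScalarTower R A T] [Algebra.FinitePresentation R A]
    (q : Ideal A) [q.IsPrime] (Q : Ideal T) [Q.IsPrime] [Q.LiesOver q]
    [Algebra.IsEtaleAt A Q] [Algebra.IsEtaleAt R Q]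
    (hA : Module.Flat A (Localization.AtPrime Q)) (hR : Module.Flat R (Localization.AtPrime Q)) :
    Algebra.IsEtaleAt R q := by
  let Aq := Localization.AtPrime q
  let TQ := Localization.AtPrime Q
  letI := Localization.AtPrime.algebraOfLiesOver q Q
  haveI : IsScalarTower R Aq TQ := IsScalarTower.of_algebraMap_eq fun r => by
    rw [IsScalarTower.algebraMap_apply R A Aq, ← IsScalarTower.algebraMap_apply A Aq TQ,
      ← IsScalarTower.algebraMap_apply R A TQ]
  haveI : Module.Flat Aq TQ := (Module.flat_iff_of_isLocalization Aq q.primeCompl TQ).mpr hA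
  haveI : Algebra.FormallyEtale Aq TQ := .localization_base q.primeCompl
  haveI : Module.FaithfullyFlat Aq TQ := Module.FaithfullyFlat.of_flat_of_isLocalHom
  have hflat : Module.Flat R Aq := by
    rw [Module.Flat.iff_lTensor_preserves_injective_linearMap]
    intro M N _ _ _ _ f hf
    change Function.Injective (AlgebraTensorModule.lTensor Aq Aq f)
    rw [← Module.FaithfullyFlat.lTensor_injective_iff_injective Aq TQ]
    have key : ∀ (P : Type u) [AddCommGroup P] [Module R P],
        ∃ e : TQ ⊗[Aq] (Aq ⊗[R] P) ≃ₗ[R] TQ ⊗[R] P, ∀ t a p, e (t ⊗ₜ (a ⊗ₜ p)) = (a • t) ⊗ₜ p :=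
      fun P _ _ => ⟨(AlgebraTensorModule.cancelBaseChange R Aq TQ TQ P).restrictScalars R,
        fun t a p => by simp⟩
    obtain ⟨eM, heM⟩ := key M
    obtain ⟨eN, heN⟩ := key N
    intro z w hzw
    apply eM.injective
    apply Module.Flat.lTensor_preserves_injective_linearMap (M := TQ) f hf
    have h : ∀ z, LinearMap.lTensor TQ f (eM z) =
        eN (LinearMap.lTensor TQ (AlgebraTensorModule.lTensor Aq Aq f) z) := by
      intro z
      induction z using TensorProduct.induction_on with
      | zero => simp
      | add a b ha hb => simp only [map_add, ha, hb]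
      | tmul t y =>
        induction y using TensorProduct.induction_on with
        | zero => simp
        | add a b ha hb => simp only [tmul_add, map_add, ha, hb]
        | tmul a p => simp [heM, heN]
    rw [h, h]
    exact congrArg eN hzw
  haveI : Algebra.FormallyUnramified R TQ := inferInstance
  haveI : Subsingleton (TQ ⊗[Aq] Ω[Aq⁄R]) := ⟨fun a b => by
    have h0 : ∀ z : TQ ⊗[Aq] Ω[Aq⁄R], z = 0 := fun z => by
      obtain ⟨h, rfl⟩ := (Algebra.H1Cotangent.exact_δ_mapBaseChange R Aq TQ z).mp (Subsingleton.elim _ _)
      rw [Subsingleton.elim h 0, map_zero]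
    rw [h0 a, h0 b]⟩
  haveI : Algebra.FormallyUnramified R Aq := by
    refine ⟨Module.FaithfullyFlat.lTensor_reflects_triviality Aq TQ _ ⟩
  haveI : q.LiesOver (q.under R) := ⟨rfl⟩
  letI := Localization.AtPrime.algebraOfLiesOver (q.under R) q
  haveI : Module.Flat (Localization.AtPrime (q.under R)) Aq :=
    (Module.flat_iff_of_isLocalization (Localization.AtPrime (q.under R)) (q.under R).primeCompl Aq).mpr hflat
  haveI : Algebra.IsUnramifiedAt R q := ‹Algebra.FormallyUnramified R Aq›
  exact GrothLib.LocProp.isEtaleAt_of_isUnramifiedAt_of_flat (q.under R) q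

end GrothLib.InvEtale1
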