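import Mathlib
import Groth.Agent.Lib.InvEtale1.Basic
import Groth.Agent.Lib.GLSlice.LevelFlat

/-!
# Invariants of an étale equivariant map without residue extension
-/

set_option autoImplicit false

universe u

open TensorProduct

namespace GrothLib.InvEtale1

theorem mem_pow_of_mul {R : Type u} [CommRing R] {y : Ideal R} [y.IsMaximal] {n : ℕ} {v r : R}
    (hv : v ∉ y) (h : v * r ∈ y ^ n) : r ∈ y ^ n := by
  have hcop : Ideal.span {v} ⊔ y ^ n = ⊤ := by
    refine Ideal.sup_pow_eq_top (‹y.IsMaximal›.out.2 _ (lt_of_le_of_ne le_sup_right fun h => hv ?_))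
    exact h ▸ Submodule.mem_sup_left (Ideal.mem_span_singleton_self v)
  obtain ⟨c, hc, d, hd, hcd⟩ :=
    Submodule.mem_sup.1 (hcop ▸ Submodule.mem_top : (1 : R) ∈ Ideal.span {v} ⊔ y ^ n)
  obtain ⟨t, rfl⟩ := Ideal.mem_span_singleton'.1 hc
  rw [show r = t * (v * r) + d * r by linear_combination (-r) * hcd]
  exact add_mem (Ideal.mul_mem_left _ _ h) (Ideal.mul_mem_right _ _ hd)

section Invariant

variable (G : Type u) [Group G] [Finite G] {B₀ B : Type u} [CommRing B₀] [CommRing B] [Algebra B₀ B]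
  [MulSemiringAction G B] [SMulCommClass G B₀ B] [Algebra.IsInvariant B₀ B G]

/-- A norm: every element outside a fixed prime divides an invariant outside it. -/
theorem exists_norm (P : Ideal B) [P.IsPrime] (hfix : ∀ (g : G) (b : B), g • b - b ∈ P) {u : B}
    (hu : u ∉ P) : ∃ (v : B₀) (c : B), algebraMap B₀ B v = u * c ∧ v ∉ P.comap (algebraMap B₀ B) := by
  classical
  cases nonempty_fintype G
  obtain ⟨v, hv⟩ := Algebra.IsInvariant.isInvariant (A := B₀) (∏ g : G, g • u)
    (fun g => Finset.smul_prod_perm u g)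
  refine ⟨v, ∏ g ∈ Finset.univ.erase (1 : G), g • u, ?_, fun h => ?_⟩
  · rw [hv, ← Finset.mul_prod_erase _ _ (Finset.mem_univ (1 : G)), one_smul]
  · rw [Ideal.mem_comap, hv] at h
    obtain ⟨g, -, hg⟩ := Ideal.IsPrime.prod_mem_iff.mp h
    exact hu (by simpa using P.sub_mem hg (hfix g u))

/-- A fixed maximal prime is the only one above its contraction, so has a power below it. -/
theorem exists_pow_le [IsNoetherianRing B] (P : Ideal B) [hP : P.IsMaximal]
    (hfix : ∀ (g : G) (b : B), g • b - b ∈ P) :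
    ∃ e, P ^ e ≤ (P.comap (algebraMap B₀ B)).map (algebraMap B₀ B) := by
  haveI := Algebra.IsInvariant.isIntegral B₀ B G
  refine Ideal.exists_pow_le_of_le_radical_of_fg ?_ (IsNoetherian.noetherian _)
  rw [Ideal.radical_eq_sInf]
  refine le_sInf fun Q ⟨hle, hQ⟩ => ?_
  have hmax : (P.comap (algebraMap B₀ B)).IsMaximal := Ideal.isMaximal_comap_of_isIntegral_of_isMaximal P
  have hu : P.under B₀ = Q.under B₀ :=
    hmax.eq_of_le (hQ.comap _).ne_top (Ideal.map_le_iff_le_comap.mp hle)
  obtain ⟨g, hg⟩ := Algebra.IsInvariant.exists_smul_of_under_eq B₀ B G P Q hu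
  intro b hb
  rw [hg, Ideal.mem_pointwise_smul_iff_inv_smul_mem]
  simpa using P.add_mem (hfix g⁻¹ b) hb

/-- Almost invariant elements are congruent to invariants. -/
theorem exists_close [IsNoetherianRing B₀] [Module.Finite B₀ B] (J : Ideal B₀) (n : ℕ) :
    ∃ m, ∀ b : B, (∀ g : G, g • b - b ∈ (J ^ m).map (algebraMap B₀ B)) →
      ∃ r : B₀, b - algebraMap B₀ B r ∈ (J ^ n).map (algebraMap B₀ B) := by
  classical
  cases nonempty_fintype G
  let δ : B →ₗ[B₀] (G → B) :=
    LinearMap.pi fun g => (MulSemiringAction.toAlgHom B₀ B g).toLinearMap - LinearMap.id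
  obtain ⟨m, hm⟩ := exists_inf_pow_smul_le J (LinearMap.range δ) n
  refine ⟨m, fun b hb => ?_⟩
  have hmem : δ b ∈ LinearMap.range δ ⊓ J ^ m • (⊤ : Submodule B₀ (G → B)) := by
    refine ⟨⟨b, rfl⟩, ?_⟩
    rw [show δ b = ∑ g, LinearMap.single B₀ (fun _ : G => B) g (δ b g) from (Finset.univ_sum_single _).symm]
    refine Submodule.sum_mem _ fun g _ => ?_
    have h1 : δ b g ∈ J ^ m • (⊤ : Submodule B₀ B) := by
      rw [Ideal.smul_top_eq_map]; exact hb g
    have h2 := Submodule.mem_map_of_mem (f := LinearMap.single B₀ (fun _ : G => B) g) h1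
    rw [Submodule.map_smul''] at h2
    exact Submodule.smul_mono le_rfl le_top h2
  have h3 := hm hmem
  rw [LinearMap.range_eq_map, ← Submodule.map_smul''] at h3
  obtain ⟨b', hb', hbb⟩ := h3
  rw [Ideal.smul_top_eq_map] at hb'
  obtain ⟨r, hr⟩ := Algebra.IsInvariant.isInvariant (A := B₀) (G := G) (b - b') fun g => by
    have := congrFun hbb g
    simp only [δ, LinearMap.pi_apply, LinearMap.sub_apply, AlgHom.toLinearMap_apply,
      MulSemiringAction.toAlgHom_apply, LinearMap.id_apply] at this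
    rw [smul_sub]
    linear_combination -this
  exact ⟨r, by rw [hr, sub_sub_cancel]; exact hb'⟩

omit [Finite G] [MulSemiringAction G B] [SMulCommClass G B₀ B] [Algebra.IsInvariant B₀ B G] in
/-- Contraction of high powers to a subring. -/
theorem exists_contract [IsNoetherianRing B₀] [Module.Finite B₀ B]
    (hinj : Function.Injective (algebraMap B₀ B)) (J : Ideal B₀) (n : ℕ) :
    ∃ m, ∀ r : B₀, algebraMap B₀ B r ∈ (J ^ m).map (algebraMap B₀ B) → r ∈ J ^ n := by
  obtain ⟨m, hm⟩ := exists_inf_pow_smul_le J (LinearMap.range (Algebra.linearMap B₀ B)) n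
  refine ⟨m, fun r hr => ?_⟩
  have h1 : algebraMap B₀ B r ∈ J ^ m • (⊤ : Submodule B₀ B) := by
    rw [Ideal.smul_top_eq_map]; exact hr
  have h2 := hm ⟨⟨r, rfl⟩, h1⟩
  rw [LinearMap.range_eq_map, ← Submodule.map_smul''] at h2
  obtain ⟨r', hr', hrr⟩ := h2
  rw [← hinj hrr]
  have h3 : r' ∈ J ^ n • (⊤ : Submodule B₀ B₀) := hr'
  rwa [Ideal.smul_eq_mul, Ideal.mul_top] at h3

end Invariant

section Etale

variable {B A : Type u} [CommRing B] [CommRing A] [Algebra B A] [Algebra.FinitePresentation B A]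
  (x : Ideal A) [x.IsPrime] [Algebra.IsEtaleAt B x]

theorem map_under_eq_maximalIdeal :
    (x.under B).map (algebraMap B (Localization.AtPrime x)) =
      IsLocalRing.maximalIdeal (Localization.AtPrime x) := by
  haveI : x.LiesOver (x.under B) := ⟨rfl⟩
  letI := Localization.AtPrime.algebraOfLiesOver (x.under B) x
  haveI : Algebra.IsUnramifiedAt B x :=
    (Algebra.FormallyEtale.iff_formallyUnramified_and_formallySmooth.mp ‹_›).1
  exact ((Algebra.isUnramifiedAt_iff_map_eq B (x.under B) x).mp inferInstance).2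

theorem exists_mul_mem_of_mem_map (J : Ideal B) {b : B}
    (h : algebraMap B (Localization.AtPrime x) b ∈ J.map (algebraMap B (Localization.AtPrime x))) :
    ∃ u ∉ x.under B, u * b ∈ J := by
  haveI : x.LiesOver (x.under B) := ⟨rfl⟩
  letI := Localization.AtPrime.algebraOfLiesOver (x.under B) x
  let By := Localization.AtPrime (x.under B)
  let L := Localization.AtPrime x
  obtain ⟨hflat, -⟩ := (GrothLib.LocProp.isEtaleAt_iff (x.under B) x).mp ‹_›
  haveI : Module.Flat By L := hflat
  haveI : Module.FaithfullyFlat By L := Module.FaithfullyFlat.of_flat_of_isLocalHom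
  have h1 : algebraMap B By b ∈ J.map (algebraMap B By) := by
    rw [← Ideal.comap_map_eq_self_of_faithfullyFlat (B := L) (J.map (algebraMap B By)), Ideal.mem_comap,
      Ideal.map_map, ← IsScalarTower.algebraMap_eq, ← IsScalarTower.algebraMap_apply]
    exact h
  obtain ⟨u, hu, hub⟩ := (IsLocalization.algebraMap_mem_map_algebraMap_iff (x.under B).primeCompl By J b).1 h1
  exact ⟨u, hu, hub⟩

omit [Algebra.FinitePresentation B A] [Algebra.IsEtaleAt B x] in
theorem exists_mul_mem_of_mem_map' (J : Ideal A) {a : A}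
    (h : algebraMap A (Localization.AtPrime x) a ∈ J.map (algebraMap A (Localization.AtPrime x))) :
    ∃ u ∉ x, u * a ∈ J := by
  obtain ⟨u, hu, hua⟩ := (IsLocalization.algebraMap_mem_map_algebraMap_iff x.primeCompl _ J a).1 h
  exact ⟨u, hu, hua⟩

theorem exists_sub_mem_pow [x.IsMaximal] (hres : ∀ a : A, ∃ b : B, a - algebraMap B A b ∈ x) (M : ℕ) (a : A) :
    ∃ b : B, a - algebraMap B A b ∈ x ^ M := by
  have hx : x ≤ (x.under B).map (algebraMap B A) ⊔ x ^ 2 := by
    intro a ha
    have h1 : algebraMap A (Localization.AtPrime x) a ∈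
        ((x.under B).map (algebraMap B A)).map (algebraMap A (Localization.AtPrime x)) := by
      rw [Ideal.map_map, ← IsScalarTower.algebraMap_eq, map_under_eq_maximalIdeal]
      exact (IsLocalization.AtPrime.to_map_mem_maximal_iff _ x a).2 ha
    obtain ⟨u, hu, hua⟩ := exists_mul_mem_of_mem_map' x _ h1
    obtain ⟨v, w, hw, hvw⟩ := ‹x.IsMaximal›.exists_inv hu
    rw [show a = v * (u * a) + w * a by linear_combination (-a) * hvw]
    exact Submodule.add_mem_sup (Ideal.mul_mem_left _ _ hua) (by rw [sq]; exact Ideal.mul_mem_mul hw ha)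
  have hxM : ∀ M : ℕ, x ^ M ≤ ((x.under B).map (algebraMap B A)) ^ M ⊔ x ^ (M + 1) := by
    have hP : (x.under B).map (algebraMap B A) ≤ x := Ideal.map_comap_le
    generalize (x.under B).map (algebraMap B A) = P at hx hP ⊢
    intro M
    induction M with
    | zero => simp
    | succ M ih =>
      refine (pow_succ x M).le.trans ((Ideal.mul_mono ih hx).trans ?_)
      rw [Ideal.sup_mul, Ideal.mul_sup, Ideal.mul_sup]
      refine sup_le (sup_le ?_ ?_) (sup_le ?_ ?_)
      · exact (pow_succ P M).ge.trans le_sup_left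
      · refine le_sup_of_le_right ((Ideal.mul_mono (Ideal.pow_right_mono hP M) le_rfl).trans ?_)
        rw [← pow_add]
      · refine le_sup_of_le_right ((Ideal.mul_mono le_rfl hP).trans ?_)
        rw [← pow_succ]
      · refine le_sup_of_le_right ?_
        rw [← pow_add]; exact Ideal.pow_le_pow_right (by omega)
  induction M generalizing a with
  | zero => exact ⟨0, by simp⟩
  | succ M ih =>
    obtain ⟨b, hb⟩ := ih a
    obtain ⟨p, hp, q, hq, hpq⟩ := Submodule.mem_sup.1 (hxM M hb)
    rw [← Ideal.map_pow] at hp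
    have key : ∀ p ∈ ((x.under B) ^ M).map (algebraMap B A), ∃ b : B, p - algebraMap B A b ∈ x ^ (M + 1) := by
      intro p hp
      induction hp using Submodule.span_induction with
      | mem p hp => obtain ⟨b, -, rfl⟩ := hp; exact ⟨b, by simp⟩
      | zero => exact ⟨0, by simp⟩
      | add p p' _ _ h h' =>
        obtain ⟨b, hb⟩ := h; obtain ⟨b', hb'⟩ := h'
        exact ⟨b + b', by rw [map_add, add_sub_add_comm]; exact add_mem hb hb'⟩
      | smul c p hp h =>
        obtain ⟨b, hb⟩ := h; obtain ⟨d, hd⟩ := hres c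
        refine ⟨d * b, ?_⟩
        have hpx : p ∈ x ^ M := by
          refine (?_ : Ideal.map (algebraMap B A) ((x.under B) ^ M) ≤ x ^ M) hp
          rw [Ideal.map_pow]; exact Ideal.pow_right_mono Ideal.map_comap_le M
        rw [smul_eq_mul, map_mul, show c * p - algebraMap B A d * algebraMap B A b =
          (c - algebraMap B A d) * p + algebraMap B A d * (p - algebraMap B A b) by ring]
        exact add_mem (by rw [pow_succ']; exact Ideal.mul_mem_mul hd hpx) (Ideal.mul_mem_left _ _ hb)
    obtain ⟨b', hb'⟩ := key p hp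
    refine ⟨b + b', ?_⟩
    rw [map_add, show a - (algebraMap B A b + algebraMap B A b') = q + (p - algebraMap B A b') by
      linear_combination -hpq]
    exact add_mem hq hb'

end Etale

set_option maxHeartbeats 800000 in
/-- The invariants are étale when the residue fields agree and the group acts trivially on them. -/
theorem isEtaleAt_trivial {G B A B₀ A₀ : Type u} [Group G] [Finite G] [CommRing B] [CommRing A]
    [CommRing B₀] [CommRing A₀] [MulSemiringAction G A] [MulSemiringAction G B]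
    [Algebra B A] [Algebra B₀ B] [Algebra A₀ A] [Algebra B₀ A₀] [Algebra B₀ A]
    [IsScalarTower B₀ B A] [IsScalarTower B₀ A₀ A]
    [IsNoetherianRing B₀] [Module.Finite B₀ B] [Algebra.FiniteType B₀ A₀] [Module.Finite A₀ A]
    [SMulCommClass G B₀ B] [SMulCommClass G A₀ A] [Algebra.IsInvariant B₀ B G] [Algebra.IsInvariant A₀ A G]
    [Algebra.FinitePresentation B A]
    (hB₀ : Function.Injective (algebraMap B₀ B)) (hA₀ : Function.Injective (algebraMap A₀ A))
    (hGeq : ∀ (g : G) (b : B), algebraMap B A (g • b) = g • algebraMap B A b)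
    (x : Ideal A) [x.IsMaximal] [(x.under B).IsMaximal] [Algebra.IsEtaleAt B x]
    (hres : ∀ a : A, ∃ b : B, a - algebraMap B A b ∈ x) (hfix : ∀ (g : G) (a : A), g • a - a ∈ x) :
    Algebra.IsEtaleAt B₀ (x.under A₀) := by
  haveI : IsNoetherianRing A₀ := Algebra.FiniteType.isNoetherianRing B₀ A₀
  haveI : IsNoetherianRing B := isNoetherian_of_tower B₀ inferInstance
  haveI := Algebra.IsInvariant.isIntegral B₀ B G
  haveI := Algebra.IsInvariant.isIntegral A₀ A G
  set y := x.under B with hy
  have hfixy : ∀ (g : G) (b : B), g • b - b ∈ y := fun g b => by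
    show algebraMap B A (g • b - b) ∈ x
    rw [map_sub, hGeq]; exact hfix g _
  set z := y.comap (algebraMap B₀ B) with hz
  haveI hzmax : z.IsMaximal := Ideal.isMaximal_comap_of_isIntegral_of_isMaximal y
  set w := x.under A₀ with hw
  haveI hwmax : w.IsMaximal := Ideal.isMaximal_comap_of_isIntegral_of_isMaximal x
  haveI : w.LiesOver z := ⟨by
    rw [hz, hw, hy, Ideal.under, Ideal.under, Ideal.under, Ideal.comap_comap, Ideal.comap_comap,
      ← IsScalarTower.algebraMap_eq, ← IsScalarTower.algebraMap_eq]⟩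
  let Aw := Localization.AtPrime w
  let L := Localization.AtPrime x
  obtain ⟨e, he⟩ := exists_pow_le G (B₀ := B₀) y hfixy
  -- powers of `y` in the local ring of `x`
  have hzB : ∀ m M, e * m ≤ M → y ^ M ≤ (z ^ m).map (algebraMap B₀ B) := fun m M hM => by
    rw [Ideal.map_pow]
    exact (Ideal.pow_le_pow_right hM).trans (pow_mul y e m ▸ Ideal.pow_right_mono he m)
  have hgx : ∀ (g : G) (M : ℕ) (a : A), a ∈ x ^ M → g • a ∈ x ^ M := fun g M a ha => by
    have h1 : x.map (MulSemiringAction.toRingHom G A g) ≤ x := Ideal.map_le_iff_le_comap.2 fun a ha => by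
      simpa using x.add_mem (hfix g a) ha
    have h2 := Ideal.mem_map_of_mem (MulSemiringAction.toRingHom G A g) ha
    rw [Ideal.map_pow] at h2
    exact Ideal.pow_right_mono h1 M h2
  have hxL : ∀ M, (x ^ M).map (algebraMap A L) = (y ^ M).map (algebraMap B L) := fun M => by
    rw [Ideal.map_pow, Ideal.map_pow, Localization.AtPrime.map_eq_maximalIdeal, hy, map_under_eq_maximalIdeal]
  have hsurj : ∀ (n : ℕ) (a : A₀), ∃ r : B₀,
      algebraMap A₀ Aw (a - algebraMap B₀ A₀ r) ∈ (z ^ n).map (algebraMap B₀ Aw) := by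
    intro n a
    obtain ⟨m₃, hm₃⟩ := exists_contract (B := A) hA₀ (z.map (algebraMap B₀ A₀)) n
    obtain ⟨m₁, hm₁⟩ := exists_close G (B := B) z m₃
    obtain ⟨b, hb⟩ := exists_sub_mem_pow x hres (e * (m₁ + m₃)) (algebraMap A₀ A a)
    obtain ⟨r, hr⟩ := hm₁ b fun g => by
      have h1 : algebraMap B A (g • b - b) ∈ x ^ (e * (m₁ + m₃)) := by
        rw [map_sub, hGeq, show g • algebraMap B A b - algebraMap B A b =
          (algebraMap A₀ A a - algebraMap B A b) - g • (algebraMap A₀ A a - algebraMap B A b) by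
            rw [smul_sub, smul_algebraMap g a]; ring]
        exact sub_mem hb (hgx _ _ _ hb)
      have h2 := Ideal.mem_map_of_mem (algebraMap A L) h1
      rw [hxL, ← IsScalarTower.algebraMap_apply] at h2
      obtain ⟨u, hu, hub⟩ := exists_mul_mem_of_mem_map x _ h2
      exact hzB m₁ _ (Nat.mul_le_mul_left e (Nat.le_add_right _ _)) (mem_pow_of_mul hu hub)
    refine ⟨r, ?_⟩
    have h3 : algebraMap A L (algebraMap A₀ A (a - algebraMap B₀ A₀ r)) ∈
        ((z ^ m₃).map (algebraMap B₀ A)).map (algebraMap A L) := by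
      rw [map_sub, ← IsScalarTower.algebraMap_apply B₀ A₀ A, IsScalarTower.algebraMap_apply B₀ B A,
        ← sub_add_sub_cancel _ (algebraMap B A b), map_add]
      refine add_mem ?_ (Ideal.mem_map_of_mem _ ?_)
      · have h4 := Ideal.mem_map_of_mem (algebraMap A L) hb
        rw [hxL] at h4
        rw [Ideal.map_map, ← IsScalarTower.algebraMap_eq, IsScalarTower.algebraMap_eq B₀ B L, ← Ideal.map_map]
        exact Ideal.map_mono (hzB m₃ _ (Nat.mul_le_mul_left e (Nat.le_add_left _ _))) h4
      · rw [← map_sub, IsScalarTower.algebraMap_eq B₀ B A, ← Ideal.map_map]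
        exact Ideal.mem_map_of_mem _ hr
    obtain ⟨u, hu, hua⟩ := exists_mul_mem_of_mem_map' x _ h3
    obtain ⟨v, c, hvc, hv⟩ := exists_norm G (B₀ := A₀) x hfix hu
    have h5 := hm₃ (v * (a - algebraMap B₀ A₀ r)) (by
      rw [← Ideal.map_pow, Ideal.map_map, ← IsScalarTower.algebraMap_eq, map_mul, hvc, mul_right_comm]
      exact Ideal.mul_mem_right _ _ hua)
    have h6 := Ideal.mem_map_of_mem (algebraMap A₀ Aw) h5
    rw [← Ideal.map_pow, Ideal.map_map, ← IsScalarTower.algebraMap_eq, map_mul] at h6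
    exact (Ideal.unit_mul_mem_iff_mem _ (IsLocalization.map_units Aw (⟨v, hv⟩ : w.primeCompl))).1 h6
  have hinj : ∀ (n : ℕ) (r : B₀), algebraMap B₀ Aw r ∈ (z ^ n).map (algebraMap B₀ Aw) → r ∈ z ^ n := by
    intro n r hr
    obtain ⟨N, hN⟩ := exists_contract (B := B) hB₀ z n
    rw [IsScalarTower.algebraMap_eq B₀ A₀ Aw, ← Ideal.map_map, RingHom.comp_apply] at hr
    obtain ⟨v, hv, hvr⟩ := exists_mul_mem_of_mem_map' w _ hr
    have key : ∀ p ∈ (z ^ n).map (algebraMap B₀ A₀), ∃ r₁ ∈ z ^ n,
        algebraMap A₀ Aw (p - algebraMap B₀ A₀ r₁) ∈ (z ^ N).map (algebraMap B₀ Aw) := by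
      intro p hp
      induction hp using Submodule.span_induction with
      | mem p hp => obtain ⟨s, hs, rfl⟩ := hp; exact ⟨s, hs, by simp⟩
      | zero => exact ⟨0, zero_mem _, by simp⟩
      | add p p' _ _ h h' =>
        obtain ⟨s, hs, hps⟩ := h; obtain ⟨s', hs', hps'⟩ := h'
        exact ⟨s + s', add_mem hs hs', by rw [map_add, add_sub_add_comm, map_add]; exact add_mem hps hps'⟩
      | smul c p _ h =>
        obtain ⟨s, hs, hps⟩ := h; obtain ⟨d, hd⟩ := hsurj N c
        refine ⟨d * s, Ideal.mul_mem_left _ _ hs, ?_⟩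
        rw [smul_eq_mul, map_mul, show c * p - algebraMap B₀ A₀ d * algebraMap B₀ A₀ s =
          (c - algebraMap B₀ A₀ d) * p + algebraMap B₀ A₀ d * (p - algebraMap B₀ A₀ s) by ring, map_add,
          map_mul, map_mul]
        exact add_mem (Ideal.mul_mem_right _ _ hd) (Ideal.mul_mem_left _ _ hps)
    obtain ⟨r₁, hr₁, hvr₁⟩ := key _ hvr
    obtain ⟨d, hd⟩ := hsurj N v
    have h1 : algebraMap A₀ Aw (algebraMap B₀ A₀ (d * r - r₁)) ∈ (z ^ N).map (algebraMap B₀ Aw) := by
      rw [map_sub, map_mul, show algebraMap B₀ A₀ d * algebraMap B₀ A₀ r - algebraMap B₀ A₀ r₁ =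
        (v * algebraMap B₀ A₀ r - algebraMap B₀ A₀ r₁) - (v - algebraMap B₀ A₀ d) * algebraMap B₀ A₀ r by ring,
        map_sub, map_mul]
      exact sub_mem hvr₁ (Ideal.mul_mem_right _ _ hd)
    rw [IsScalarTower.algebraMap_eq B₀ A₀ Aw, ← Ideal.map_map] at h1
    obtain ⟨v', hv', hv'r⟩ := exists_mul_mem_of_mem_map' w _ h1
    have h2 := Ideal.mem_map_of_mem (algebraMap A₀ A) hv'r
    rw [Ideal.map_map, ← IsScalarTower.algebraMap_eq, map_mul, ← IsScalarTower.algebraMap_apply] at h2
    have h3 := Ideal.mem_map_of_mem (algebraMap A L) h2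
    rw [Ideal.map_map, ← IsScalarTower.algebraMap_eq, map_mul, ← IsScalarTower.algebraMap_apply] at h3
    have hv'u : IsUnit (algebraMap A L (algebraMap A₀ A v')) :=
      IsLocalization.map_units L (⟨algebraMap A₀ A v', hv'⟩ : x.primeCompl)
    replace h3 := (Ideal.unit_mul_mem_iff_mem _ hv'u).1 h3
    rw [IsScalarTower.algebraMap_eq B₀ B L, ← Ideal.map_map, IsScalarTower.algebraMap_apply B₀ B A,
      ← IsScalarTower.algebraMap_apply B A L] at h3
    obtain ⟨u, hu, hur⟩ := exists_mul_mem_of_mem_map x _ h3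
    obtain ⟨v'', c, hvc, hv''⟩ := exists_norm G (B₀ := B₀) y hfixy hu
    have h4 := hN (v'' * (d * r - r₁)) (by
      rw [map_mul, hvc, mul_right_comm]; exact Ideal.mul_mem_right _ _ hur)
    have h5 : d * r ∈ z ^ n := by simpa using add_mem (mem_pow_of_mul hv'' h4) hr₁
    rcases Nat.eq_zero_or_pos n with rfl | hn
    · simp
    refine mem_pow_of_mul (v := d) (fun hdz => ?_) h5
    refine hv ?_
    rcases Nat.eq_zero_or_pos N with rfl | hN0
    · exfalso
      have := hN 1 (by rw [pow_zero, Ideal.one_eq_top, Ideal.map_top]; exact Submodule.mem_top)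
      rw [← Ideal.eq_top_iff_one] at this
      exact hzmax.ne_top (eq_top_iff.2 (this ▸ Ideal.pow_le_self hn.ne'))
    have h6 : algebraMap A₀ Aw (v - algebraMap B₀ A₀ d) ∈ IsLocalRing.maximalIdeal Aw := by
      refine (?_ : Ideal.map (algebraMap B₀ Aw) (z ^ N) ≤ _) hd
      refine (Ideal.map_mono (Ideal.pow_le_self hN0.ne')).trans (Ideal.map_le_iff_le_comap.2 fun s hs => ?_)
      rw [Ideal.mem_comap, IsScalarTower.algebraMap_apply B₀ A₀ Aw,
        IsLocalization.AtPrime.to_map_mem_maximal_iff Aw w]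
      exact (w.over_def z ▸ hs : s ∈ w.under B₀)
    rw [IsLocalization.AtPrime.to_map_mem_maximal_iff Aw w] at h6
    have h7 : algebraMap B₀ A₀ d ∈ w := (w.over_def z ▸ hdz : d ∈ w.under B₀)
    simpa using w.add_mem h6 h7
  exact GrothLib.GLSlice.isEtaleAt_of_levels z w hsurj hinj

end GrothLib.InvEtale1
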