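import Mathlib
import Groth.Agent.Lib.InvEtale1.Levels
import Groth.Agent.Lib.InertiaEtale4.Core
import Groth.Agent.S12933

/-!
# Realizing the separable residue extension by an étale base change
-/

set_option autoImplicit false

universe u

open TensorProduct Polynomial

namespace GrothLib.InvEtale1

section Field

/-- A finitely generated field over the image of a ring: a monic integral relation for a primitive
element of the separable closure. -/
theorem exists_monic_separable_closure {R k K : Type u} [CommRing R] [Field k] [Field K] [Algebra R k]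
    [Algebra R K] [Algebra k K] [IsScalarTower R k K]
    (hfrac : ∀ c : k, ∃ a s : R, algebraMap R k s ≠ 0 ∧ c * algebraMap R k s = algebraMap R k a)
    [FiniteDimensional k K] :
    ∃ (θ : K) (f : R[X]), f.Monic ∧ aeval θ f = 0 ∧ aeval θ (derivative f) ≠ 0 ∧
      ∀ M : IntermediateField k K, θ ∈ M → separableClosure k K ≤ M := by
  obtain ⟨α, hα⟩ := Field.exists_primitive_element k (separableClosure k K)
  set m := minpoly k α with hm
  choose a s hs hmul using fun i : ℕ => hfrac (m.coeff i)
  set S := ∏ i ∈ Finset.range m.natDegree, s i with hS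
  have hS0 : algebraMap R k S ≠ 0 := by
    rw [hS, map_prod]; exact Finset.prod_ne_zero_iff.2 fun i _ => hs i
  have hint : IsIntegral k α := Algebra.IsIntegral.isIntegral α
  have hlift : m.scaleRoots (algebraMap R k S) ∈ Polynomial.lifts (algebraMap R k) := by
    rw [lifts_iff_coeff_lifts]
    intro i
    rw [coeff_scaleRoots]
    rcases lt_trichotomy i m.natDegree with hi | rfl | hi
    · obtain ⟨c, hc⟩ := Finset.dvd_prod_of_mem s (Finset.mem_range.2 hi)
      rw [← hS] at hc
      refine ⟨a i * c * S ^ (m.natDegree - i - 1), ?_⟩
      rw [map_mul, map_mul, map_pow, ← hmul, mul_assoc (m.coeff i), ← map_mul, ← hc, mul_assoc,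
        ← pow_succ', Nat.sub_add_cancel (by omega)]
    · exact ⟨1, by rw [(minpoly.monic hint).coeff_natDegree, Nat.sub_self, pow_zero, map_one, mul_one]⟩
    · exact ⟨0, by rw [coeff_eq_zero_of_natDegree_lt hi, zero_mul, map_zero]⟩
  obtain ⟨f, hf, -, hfm⟩ := lifts_and_natDegree_eq_and_monic hlift
    ((monic_scaleRoots_iff _).2 (minpoly.monic hint))
  have hmin : minpoly k (algebraMap R k S • α) = m.scaleRoots (algebraMap R k S) :=
    IsIntegrallyClosed.minpoly_smul hS0 hint
  have key : ∀ p : R[X], aeval ((algebraMap R k S • α : separableClosure k K) : K) p =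
      ((aeval (algebraMap R k S • α) (p.map (algebraMap R k)) : separableClosure k K) : K) := fun p => by
    rw [aeval_map_algebraMap]
    exact aeval_algHom_apply ((separableClosure k K).val.restrictScalars R) (algebraMap R k S • α) p
  refine ⟨((algebraMap R k S • α : separableClosure k K) : K), f, hfm, ?_, ?_, fun M hM => ?_⟩
  · rw [key, hf, ← hmin, minpoly.aeval]; rfl
  · rw [key, ← derivative_map, hf, ← hmin, ne_eq, ZeroMemClass.coe_eq_zero]
    exact (Algebra.IsSeparable.isSeparable k (algebraMap R k S • α)).aeval_derivative_ne_zero (minpoly.aeval _ _)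
  · intro b hb
    have hαM : (α : K) ∈ M := by
      have := M.smul_mem (x := (algebraMap R k S)⁻¹) hM
      rwa [IntermediateField.coe_smul, inv_smul_smul₀ hS0] at this
    have h1 : (⟨b, hb⟩ : separableClosure k K) ∈ IntermediateField.adjoin k {α} := hα ▸ IntermediateField.mem_top
    have h2 : IntermediateField.adjoin k {α} ≤ M.comap (separableClosure k K).val := by
      rw [IntermediateField.adjoin_le_iff, Set.singleton_subset_iff]; exact hαM
    exact h2 h1

end Field

/-- Base change of étaleness at a prime. -/
theorem isEtaleAt_baseChange {R C B A : Type u} [CommRing R] [CommRing C] [CommRing B] [CommRing A]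
    [Algebra R C] [Algebra R B] [Algebra R A] [Algebra B A] [IsScalarTower R B A]
    [Algebra (C ⊗[R] B) (C ⊗[R] A)]
    (halg : ∀ c b, algebraMap (C ⊗[R] B) (C ⊗[R] A) (c ⊗ₜ b) = c ⊗ₜ algebraMap B A b)
    (x : Ideal A) [x.IsPrime] (x' : Ideal (C ⊗[R] A)) [x'.IsPrime]
    (hx : x'.comap (Algebra.TensorProduct.includeRight (R := R) (A := C) (B := A)).toRingHom = x)
    [Algebra.IsEtaleAt B x] : Algebra.IsEtaleAt (C ⊗[R] B) x' := by
  let L := Localization.AtPrime x
  let L' := Localization.AtPrime x'
  let iA : A →+* C ⊗[R] A := (Algebra.TensorProduct.includeRight (R := R) (A := C) (B := A)).toRingHom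
  let iB : B →+* C ⊗[R] B := (Algebra.TensorProduct.includeRight (R := R) (A := C) (B := B)).toRingHom
  let ι : L →+* L' := Localization.localRingHom x x' iA hx.symm
  have hι : ∀ a, ι (algebraMap A L a) = algebraMap (C ⊗[R] A) L' (iA a) :=
    Localization.localRingHom_to_map x x' iA hx.symm
  unfold Algebra.IsEtaleAt
  rw [Algebra.FormallyEtale.iff_comp_bijective]
  intro S _ _ I hI
  letI : Algebra B S := ((algebraMap (C ⊗[R] B) S).comp iB).toAlgebra
  letI : Algebra R S := ((algebraMap (C ⊗[R] B) S).comp (algebraMap R (C ⊗[R] B))).toAlgebra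
  haveI : IsScalarTower R B S := IsScalarTower.of_algebraMap_eq fun r => by
    show algebraMap (C ⊗[R] B) S _ = algebraMap (C ⊗[R] B) S (iB (algebraMap R B r))
    rw [show iB (algebraMap R B r) = algebraMap R (C ⊗[R] B) r from
      (Algebra.TensorProduct.includeRight (R := R) (A := C) (B := B)).commutes r]
  let restr : ∀ {T : Type u} [CommRing T] [Algebra (C ⊗[R] B) T] [Algebra B T],
      (∀ b, algebraMap B T b = algebraMap (C ⊗[R] B) T (iB b)) → (L' →ₐ[C ⊗[R] B] T) → (L →ₐ[B] T) :=
    fun {T} _ _ _ hT h => { toRingHom := h.toRingHom.comp ι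
                            commutes' := fun b => by
                              show h (ι (algebraMap B L b)) = _
                              rw [IsScalarTower.algebraMap_apply B A L, hι,
                                show iA (algebraMap B A b) = algebraMap (C ⊗[R] B) (C ⊗[R] A) (iB b) from
                                  (halg 1 b).symm,
                                ← IsScalarTower.algebraMap_apply, h.commutes, hT] }
  have hbij := (Algebra.FormallyEtale.iff_comp_bijective.mp ‹Algebra.IsEtaleAt B x›) (B := S) I hI
  constructor
  · intro h₁ h₂ h12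
    have e : restr (fun b => rfl) h₁ = restr (fun b => rfl) h₂ := hbij.1 (AlgHom.ext fun l => AlgHom.congr_fun h12 (ι l))
    refine IsLocalization.algHom_ext x'.primeCompl (AlgHom.ext fun t => ?_)
    show h₁ (algebraMap _ L' t) = h₂ (algebraMap _ L' t)
    induction t using TensorProduct.induction_on with
    | zero => simp
    | add a b ha hb => simp only [map_add, ha, hb]
    | tmul c a =>
      rw [show c ⊗ₜ[R] a = algebraMap (C ⊗[R] B) (C ⊗[R] A) (c ⊗ₜ 1) * iA a by
        rw [halg, map_one]; simp [iA], map_mul, map_mul, map_mul,
        ← IsScalarTower.algebraMap_apply, AlgHom.commutes, AlgHom.commutes]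
      congr 1
      rw [← hι]
      exact AlgHom.congr_fun e (algebraMap A L a)
  · intro h
    obtain ⟨k, hk⟩ := hbij.2 (restr (fun b => rfl) h)
    let c₀ : C →ₐ[R] S :=
      { toRingHom := (algebraMap (C ⊗[R] B) S).comp Algebra.TensorProduct.includeLeftRingHom
        commutes' := fun r => by
          show algebraMap (C ⊗[R] B) S _ = algebraMap (C ⊗[R] B) S _
          rfl }
    let a₀ : A →ₐ[R] S :=
      { toRingHom := k.toRingHom.comp (algebraMap A L)
        commutes' := fun r => by
          show k (algebraMap A L (algebraMap R A r)) = _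
          rw [IsScalarTower.algebraMap_apply R B A, ← IsScalarTower.algebraMap_apply B A L, AlgHom.commutes,
            ← IsScalarTower.algebraMap_apply] }
    let g := Algebra.TensorProduct.productMap c₀ a₀
    have hg : ∀ c a, g (c ⊗ₜ a) = algebraMap (C ⊗[R] B) S (c ⊗ₜ 1) * k (algebraMap A L a) := fun c a => rfl
    let g' : C ⊗[R] A →ₐ[C ⊗[R] B] S :=
      { toRingHom := g.toRingHom
        commutes' := fun t => by
          show g (algebraMap (C ⊗[R] B) (C ⊗[R] A) t) = algebraMap (C ⊗[R] B) S t
          induction t using TensorProduct.induction_on with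
          | zero => simp
          | add a b ha hb => simp only [map_add, ha, hb]
          | tmul c b =>
            rw [halg, hg, ← IsScalarTower.algebraMap_apply B A L, AlgHom.commutes]
            show _ * algebraMap (C ⊗[R] B) S (iB b) = _
            rw [← map_mul]
            simp [iB] }
    have hq : ∀ t, Ideal.Quotient.mk I (g' t) = h (algebraMap _ L' t) := fun t => by
      induction t using TensorProduct.induction_on with
      | zero => simp
      | add a b ha hb => simp only [map_add, ha, hb]
      | tmul c a =>
        show Ideal.Quotient.mk I (g (c ⊗ₜ a)) = _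
        rw [hg, map_mul, show c ⊗ₜ[R] a = algebraMap (C ⊗[R] B) (C ⊗[R] A) (c ⊗ₜ 1) * iA a by
          rw [halg, map_one]; simp [iA], map_mul, map_mul, ← IsScalarTower.algebraMap_apply, AlgHom.commutes]
        congr 1
        rw [← hι]
        exact AlgHom.congr_fun hk (algebraMap A L a)
    have hu : ∀ t : x'.primeCompl, IsUnit (g' t) := fun t => by
      have h1 : IsUnit (Ideal.Quotient.mk I (g' t)) := by
        rw [hq]; exact (IsLocalization.map_units L' t).map h
      obtain ⟨u, hu⟩ := h1.exists_right_inv
      obtain ⟨u, rfl⟩ := Ideal.Quotient.mk_surjective u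
      rw [← map_mul, ← map_one (Ideal.Quotient.mk I), Ideal.Quotient.eq] at hu
      refine isUnit_of_mul_isUnit_left (y := u) ?_
      have h2 : (g' t * u - 1) * (g' t * u - 1) = 0 := by
        have := Ideal.mul_mem_mul hu hu
        rwa [← sq I, hI, Ideal.mem_bot] at this
      exact IsUnit.of_mul_eq_one (2 - g' t * u) (by linear_combination -h2)
    refine ⟨IsLocalization.liftAlgHom (M := x'.primeCompl) hu, IsLocalization.algHom_ext x'.primeCompl
      (AlgHom.ext fun t => ?_)⟩
    show Ideal.Quotient.mk I (IsLocalization.liftAlgHom (M := x'.primeCompl) hu (algebraMap _ L' t)) = h (algebraMap _ L' t)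
    rw [IsLocalization.liftAlgHom_apply, IsLocalization.lift_eq]
    exact hq t

/-- The action on a base change. -/
@[implicit_reducible] noncomputable def baseAction (R C B G : Type u) [CommRing R] [CommRing C] [Algebra R C] [CommRing B]
    [Algebra R B] [Group G] [MulSemiringAction G B] [SMulCommClass G R B] : MulSemiringAction G (C ⊗[R] B) where
  smul g := Algebra.TensorProduct.map (AlgHom.id C C) (MulSemiringAction.toAlgHom R B g)
  one_smul z := by
    show Algebra.TensorProduct.map (AlgHom.id C C) (MulSemiringAction.toAlgHom R B (1 : G)) z = z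
    induction z using TensorProduct.induction_on with
    | zero => simp
    | tmul r b => simp
    | add a b ha hb => rw [map_add, ha, hb]
  mul_smul g k z := by
    show Algebra.TensorProduct.map (AlgHom.id C C) (MulSemiringAction.toAlgHom R B (g * k)) z =
      Algebra.TensorProduct.map (AlgHom.id C C) (MulSemiringAction.toAlgHom R B g)
        (Algebra.TensorProduct.map (AlgHom.id C C) (MulSemiringAction.toAlgHom R B k) z)
    induction z using TensorProduct.induction_on with
    | zero => simp
    | tmul r b => simp [mul_smul]
    | add a b ha hb => simp only [map_add, ha, hb]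
  smul_zero g := map_zero _
  smul_add g := map_add (Algebra.TensorProduct.map (AlgHom.id C C) (MulSemiringAction.toAlgHom R B g))
  smul_one g := map_one _
  smul_mul g := map_mul (Algebra.TensorProduct.map (AlgHom.id C C) (MulSemiringAction.toAlgHom R B g))

end GrothLib.InvEtale1
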