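import Mathlib
import Groth.Agent.Lib.InvEtale1.BaseChange

/-!
# Invariants of an étale equivariant map, the group being inertia
-/

set_option autoImplicit false

universe u

open TensorProduct Polynomial

namespace GrothLib.InvEtale1

set_option maxHeartbeats 1000000 in
theorem isEtaleAt_total {G B A B₀ A₀ : Type u} [Group G] [Finite G] [CommRing B] [CommRing A]
    [CommRing B₀] [CommRing A₀] [MulSemiringAction G A] [MulSemiringAction G B]
    [Algebra B A] [Algebra B₀ B] [Algebra A₀ A] [Algebra B₀ A₀] [Algebra B₀ A]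
    [IsScalarTower B₀ B A] [IsScalarTower B₀ A₀ A]
    [IsNoetherianRing B₀] [Module.Finite B₀ B] [Algebra.FiniteType B₀ A₀] [Module.Finite A₀ A]
    [SMulCommClass G B₀ B] [SMulCommClass G A₀ A] [Algebra.IsInvariant B₀ B G] [Algebra.IsInvariant A₀ A G]
    (hB₀ : Function.Injective (algebraMap B₀ B)) (hA₀ : Function.Injective (algebraMap A₀ A))
    (hGeq : ∀ (g : G) (b : B), algebraMap B A (g • b) = g • algebraMap B A b)
    (x : Ideal A) [x.IsMaximal] [Algebra.IsEtaleAt B x] (hfix : ∀ (g : G) (a : A), g • a - a ∈ x) :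
    Algebra.IsEtaleAt B₀ (x.under A₀) := by
  classical
  cases nonempty_fintype G
  haveI : IsNoetherianRing A₀ := Algebra.FiniteType.isNoetherianRing B₀ A₀
  haveI : Algebra.FiniteType B₀ A := Algebra.FiniteType.trans (S := A₀) ‹_› inferInstance
  haveI : IsNoetherianRing B := isNoetherian_of_tower B₀ inferInstance
  haveI : Algebra.FiniteType B A := Algebra.FiniteType.of_restrictScalars_finiteType B₀ B A
  haveI : Algebra.FinitePresentation B A := Algebra.FinitePresentation.of_finiteType.1 inferInstance
  -- residue fields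
  let K := x.ResidueField
  let y := x.under B
  let z := x.under B₀
  letI : Algebra y.ResidueField K := (Ideal.ResidueField.map y x (algebraMap B A) rfl).toAlgebra
  letI : Algebra z.ResidueField K := (Ideal.ResidueField.map z x (algebraMap B₀ A) rfl).toAlgebra
  haveI : IsScalarTower B₀ z.ResidueField K := IsScalarTower.of_algebraMap_eq fun r =>
    (Ideal.ResidueField.map_algebraMap z x (algebraMap B₀ A) rfl r).symm
  haveI : IsScalarTower B y.ResidueField K := IsScalarTower.of_algebraMap_eq fun r =>
    (Ideal.ResidueField.map_algebraMap y x (algebraMap B A) rfl r).symm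
  have hsurjK : Function.Surjective (algebraMap A K) := fun c => by
    obtain ⟨a, rfl⟩ := (Ideal.bijective_algebraMap_quotient_residueField x).2 c
    obtain ⟨a, rfl⟩ := Ideal.Quotient.mk_surjective a
    exact ⟨a, rfl⟩
  have hkerK : ∀ a, algebraMap A K a = 0 ↔ a ∈ x := fun a => Ideal.algebraMap_residueField_eq_zero
  haveI : Algebra.FiniteType B₀ K := Algebra.FiniteType.of_surjective (IsScalarTower.toAlgHom B₀ A K) hsurjK
  haveI : Algebra.FiniteType z.ResidueField K := Algebra.FiniteType.of_restrictScalars_finiteType B₀ _ _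
  haveI : FiniteDimensional z.ResidueField K := finite_of_finite_type_of_isJacobsonRing _ _
  have hfracz : ∀ c : z.ResidueField, ∃ a s : B₀, algebraMap B₀ z.ResidueField s ≠ 0 ∧
      c * algebraMap B₀ z.ResidueField s = algebraMap B₀ z.ResidueField a := fun c => by
    obtain ⟨a, s, hs, rfl⟩ := IsFractionRing.div_surjective (B₀ ⧸ z) c
    obtain ⟨a, rfl⟩ := Ideal.Quotient.mk_surjective a
    obtain ⟨s, rfl⟩ := Ideal.Quotient.mk_surjective s
    refine ⟨a, s, ?_, ?_⟩
    · rw [Ne, Ideal.algebraMap_residueField_eq_zero, ← Ideal.Quotient.eq_zero_iff_mem]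
      exact nonZeroDivisors.ne_zero hs
    · rw [IsScalarTower.algebraMap_apply B₀ (B₀ ⧸ z) z.ResidueField s, Ideal.Quotient.algebraMap_eq,
        div_mul_cancel₀]
      · rfl
      · exact IsFractionRing.to_map_ne_zero_of_mem_nonZeroDivisors hs
  -- the étale base change
  obtain ⟨θ, f, hfm, hfθ, hfd, hθ⟩ := exists_monic_separable_closure (R := B₀) (K := K) hfracz
  let P : StandardEtalePair B₀ := ⟨f, hfm, derivative f, 1, 0, 1, by simp⟩
  let ψ : P.Ring →ₐ[B₀] K := P.lift θ ⟨hfθ, isUnit_iff_ne_zero.2 hfd⟩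
  let c : Ideal P.Ring := RingHom.ker ψ.toRingHom
  haveI : c.IsPrime := RingHom.ker_isPrime _
  let C' := Localization.AtPrime c
  haveI : Module.Flat B₀ C' := Module.Flat.trans B₀ P.Ring C'
  haveI : Algebra.FormallyEtale P.Ring C' := Algebra.FormallyEtale.of_isLocalization c.primeCompl
  haveI : Algebra.FormallyEtale B₀ C' := Algebra.FormallyEtale.comp B₀ P.Ring C'
  haveI : IsNoetherianRing P.Ring := Algebra.FiniteType.isNoetherianRing B₀ _
  haveI : IsNoetherianRing C' := IsLocalization.isNoetherianRing c.primeCompl C' inferInstance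
  let χ : C' →ₐ[B₀] K := IsLocalization.liftAlgHom (M := c.primeCompl) (f := ψ)
    fun t => isUnit_iff_ne_zero.2 t.2
  have hχ : ∀ e, χ (algebraMap P.Ring C' e) = ψ e := fun e => IsLocalization.lift_eq _ _
  have hχker : RingHom.ker χ.toRingHom = IsLocalRing.maximalIdeal C' := by
    ext t
    obtain ⟨e, s, rfl⟩ := IsLocalization.exists_mk'_eq c.primeCompl t
    rw [RingHom.mem_ker, IsLocalization.AtPrime.mk'_mem_maximal_iff C' c]
    show χ (IsLocalization.mk' C' e s) = 0 ↔ ψ e = 0
    have := IsLocalization.mk'_spec C' e s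
    rw [← hχ, ← this, map_mul, mul_eq_zero, or_iff_left]
    exact ((IsLocalization.map_units C' s).map χ).ne_zero
  -- the base changed data
  haveI : SMulCommClass G B₀ A := ⟨fun g r a => by
    rw [Algebra.smul_def, Algebra.smul_def, smul_mul', IsScalarTower.algebraMap_apply B₀ A₀ A, smul_algebraMap]⟩
  let B' := C' ⊗[B₀] B
  let A' := C' ⊗[B₀] A
  let T := C' ⊗[B₀] A₀
  letI : MulSemiringAction G A' := baseAction B₀ C' A G
  letI : MulSemiringAction G B' := baseAction B₀ C' B G
  have hsA : ∀ (g : G) (c : C') (a : A), g • (c ⊗ₜ[B₀] a : A') = c ⊗ₜ (g • a) := fun _ _ _ => rfl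
  have hsB : ∀ (g : G) (c : C') (a : B), g • (c ⊗ₜ[B₀] a : B') = c ⊗ₜ (g • a) := fun _ _ _ => rfl
  letI : Algebra B' A' := (Algebra.TensorProduct.map (AlgHom.id C' C') (IsScalarTower.toAlgHom B₀ B A)).toRingHom.toAlgebra
  letI : Algebra T A' := (Algebra.TensorProduct.map (AlgHom.id C' C') (IsScalarTower.toAlgHom B₀ A₀ A)).toRingHom.toAlgebra
  have hBA : ∀ c b, algebraMap B' A' (c ⊗ₜ b) = c ⊗ₜ algebraMap B A b := fun _ _ => rfl
  have hTA : ∀ c b, algebraMap T A' (c ⊗ₜ b) = c ⊗ₜ algebraMap A₀ A b := fun _ _ => rfl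
  haveI : IsScalarTower C' B' A' := IsScalarTower.of_algebraMap_eq (R := C') (S := B') (A := A') fun r => by
    show r ⊗ₜ[B₀] (1 : A) = algebraMap B' A' (r ⊗ₜ 1)
    rw [hBA, map_one]
  haveI : IsScalarTower C' T A' := IsScalarTower.of_algebraMap_eq (R := C') (S := T) (A := A') fun r => by
    show r ⊗ₜ[B₀] (1 : A) = algebraMap T A' (r ⊗ₜ 1)
    rw [hTA, map_one]
  have hGeq' : ∀ (g : G) (b : B'), algebraMap B' A' (g • b) = g • algebraMap B' A' b := fun g b => by
    induction b using TensorProduct.induction_on with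
    | zero => simp
    | tmul r b => rw [hsB, hBA, hBA, hsA, hGeq]
    | add a b ha hb => simp only [smul_add, map_add, ha, hb]
  haveI : SMulCommClass G C' B' :=
    ⟨fun g r a => map_smul (Algebra.TensorProduct.map (AlgHom.id C' C') (MulSemiringAction.toAlgHom B₀ B g)) r a⟩
  haveI : SMulCommClass G T A' := ⟨fun g t a => by
    rw [Algebra.smul_def, Algebra.smul_def, smul_mul']
    congr 1
    induction t using TensorProduct.induction_on with
    | zero => rw [map_zero]; exact smul_zero (A := A') g
    | tmul r b => rw [hTA, hsA, smul_algebraMap]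
    | add a b ha hb =>
      rw [map_add]
      exact (smul_add (A := A') g _ _).trans (congrArg₂ (· + ·) ha hb)⟩
  have hC'inj : Function.Injective (algebraMap C' B') :=
    Algebra.TensorProduct.includeLeft_injective (S := B₀) hB₀
  haveI : Algebra.IsInvariant C' B' G := ⟨fun w hw =>
    Groth.Agent.InertiaEtale4.exists_mem_range_of_invariant (A := B₀) (R := B) C' w hw⟩
  have hTinj : Function.Injective (algebraMap T A') :=
    Module.Flat.lTensor_preserves_injective_linearMap (M := C') (IsScalarTower.toAlgHom B₀ A₀ A).toLinearMap hA₀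
  haveI : Algebra.IsInvariant T A' G := ⟨fun w hw => by
    have key : ∀ v ∈ Submodule.span C' ((fun a : A => (1 : C') ⊗ₜ[B₀] a) '' {a : A | ∀ g : G, g • a = a}),
        ∃ t : T, algebraMap T A' t = v := fun v hv => by
      induction hv using Submodule.span_induction with
      | mem v hv =>
        obtain ⟨a, ha, rfl⟩ := hv
        obtain ⟨a₀, rfl⟩ := Algebra.IsInvariant.isInvariant (A := A₀) (G := G) a ha
        exact ⟨1 ⊗ₜ a₀, hTA _ _⟩
      | zero => exact ⟨0, map_zero _⟩
      | add a b _ _ ha hb =>
        obtain ⟨p, rfl⟩ := ha; obtain ⟨q, rfl⟩ := hb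
        exact ⟨p + q, map_add _ _ _⟩
      | smul r v _ hv =>
        obtain ⟨p, rfl⟩ := hv
        exact ⟨r • p, map_smul (IsScalarTower.toAlgHom C' T A') r p⟩
    exact key w ((Groth.Agent.S12933.result B₀ A G C' w).1 hw)⟩
  haveI : Module.Finite T A' := by
    obtain ⟨s, hs⟩ := (Module.Finite.fg_top : (⊤ : Submodule A₀ A).FG)
    refine ⟨⟨s.image fun a => (1 : C') ⊗ₜ[B₀] a, eq_top_iff.2 ?_⟩⟩
    rw [Finset.coe_image]
    suffices ∀ w : A', w ∈ Submodule.span T ((fun a => (1 : C') ⊗ₜ[B₀] a) '' (s : Set A)) from fun w _ => this w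
    intro w
    induction w using TensorProduct.induction_on with
    | zero => exact zero_mem _
    | add a b ha hb => exact add_mem ha hb
    | tmul r a =>
      have ha : a ∈ Submodule.span A₀ (s : Set A) := hs ▸ Submodule.mem_top
      induction ha using Submodule.span_induction with
      | mem a ha =>
        have := Submodule.smul_mem (Submodule.span T ((fun a => (1 : C') ⊗ₜ[B₀] a) '' (s : Set A))) (r ⊗ₜ[B₀] (1 : A₀) : T)
          (Submodule.subset_span ⟨a, ha, rfl⟩)
        rwa [Algebra.smul_def, hTA, map_one, Algebra.TensorProduct.tmul_mul_tmul, mul_one, one_mul] at this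
      | zero => rw [tmul_zero]; exact zero_mem _
      | add a b _ _ ha hb => rw [tmul_add]; exact add_mem ha hb
      | smul d a _ ha =>
        have := Submodule.smul_mem _ ((1 : C') ⊗ₜ[B₀] d : T) ha
        rwa [Algebra.smul_def, hTA, Algebra.TensorProduct.tmul_mul_tmul, one_mul, ← Algebra.smul_def] at this
  haveI : Algebra.FiniteType C' T := inferInstance
  haveI : IsNoetherianRing B' := isNoetherian_of_tower C' inferInstance
  haveI : Algebra.FiniteType B' A' := Algebra.FiniteType.of_restrictScalars_finiteType C' B' A'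
  haveI : Algebra.FinitePresentation B' A' := Algebra.FinitePresentation.of_finiteType.1 inferInstance
  -- the point
  let Φ : A' →ₐ[B₀] K := Algebra.TensorProduct.productMap χ (IsScalarTower.toAlgHom B₀ A K)
  have hΦ : ∀ r a, Φ (r ⊗ₜ a) = χ r * algebraMap A K a := fun _ _ => rfl
  let x' : Ideal A' := RingHom.ker Φ.toRingHom
  have hΦsurj : Function.Surjective Φ := fun t => by
    obtain ⟨a, rfl⟩ := hsurjK t
    exact ⟨1 ⊗ₜ a, by rw [hΦ, map_one, one_mul]⟩
  haveI : x'.IsMaximal := RingHom.ker_isMaximal_of_surjective _ hΦsurj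
  have hfix' : ∀ (g : G) (a : A'), g • a - a ∈ x' := fun g a => by
    show Φ (g • a - a) = 0
    rw [map_sub, sub_eq_zero]
    induction a using TensorProduct.induction_on with
    | zero => simp
    | tmul r a =>
      rw [hsA, hΦ, hΦ]
      congr 1
      rw [← sub_eq_zero, ← map_sub, hkerK]
      exact hfix g a
    | add a b ha hb => simp only [smul_add, map_add, ha, hb]
  have hx' : x'.comap (Algebra.TensorProduct.includeRight (R := B₀) (A := C') (B := A)).toRingHom = x := by
    ext a
    show Φ (1 ⊗ₜ a) = 0 ↔ _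
    rw [hΦ, map_one, one_mul, hkerK]
  haveI : Algebra.IsEtaleAt B' x' := isEtaleAt_baseChange hBA x x' hx'
  haveI hy' : (x'.under B').IsMaximal := by
    haveI : Algebra.IsIntegral C' B' := Algebra.IsIntegral.of_finite C' B'
    refine Ideal.isMaximal_of_isIntegral_of_isMaximal_comap (R := C') _ ?_
    have : (x'.under B').comap (algebraMap C' B') = IsLocalRing.maximalIdeal C' := by
      rw [← hχker]
      ext r
      show Φ (algebraMap B' A' (r ⊗ₜ 1)) = 0 ↔ χ r = 0
      rw [hBA, map_one, hΦ, map_one, mul_one]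
    rw [this]; infer_instance
  have hres : ∀ a : A', ∃ b : B', a - algebraMap B' A' b ∈ x' := by
    suffices h : ∀ t : K, ∃ b : B', Φ (algebraMap B' A' b) = t from fun a => by
      obtain ⟨b, hb⟩ := h (Φ a)
      exact ⟨b, by show Φ _ = 0; rw [map_sub, hb, sub_self]⟩
    let ρ : B' →+* K := Φ.toRingHom.comp (algebraMap B' A')
    have hρ : ∀ r b, ρ (r ⊗ₜ b) = χ r * algebraMap B K b := fun r b => by
      show Φ (algebraMap B' A' (r ⊗ₜ b)) = _
      rw [hBA, hΦ, ← IsScalarTower.algebraMap_apply]
    have hinv : ∀ t ∈ ρ.range, t⁻¹ ∈ ρ.range := by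
      rintro _ ⟨b, rfl⟩
      by_cases hb : b ∈ x'.under B'
      · rw [show ρ b = 0 from hb, inv_zero]; exact zero_mem _
      · obtain ⟨v, w, hw, hvw⟩ := hy'.exists_inv hb
        refine ⟨v, ?_⟩
        have := congrArg ρ hvw
        rw [map_add, map_mul, show ρ w = 0 from hw, add_zero, map_one] at this
        exact eq_inv_of_mul_eq_one_left this
    let S : Subfield K := { ρ.range with inv_mem' := hinv }
    have hB : ∀ b : B, algebraMap B K b ∈ S := fun b => ⟨1 ⊗ₜ b, by rw [hρ, map_one, one_mul]⟩
    have hk : ∀ t, algebraMap z.ResidueField K t ∈ S := fun t => by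
      obtain ⟨a, s, hs, ht⟩ := hfracz t
      have ht' := congrArg (algebraMap z.ResidueField K) ht
      rw [map_mul, ← IsScalarTower.algebraMap_apply, ← IsScalarTower.algebraMap_apply,
        IsScalarTower.algebraMap_apply B₀ B K s, IsScalarTower.algebraMap_apply B₀ B K a] at ht'
      have hs' : algebraMap B K (algebraMap B₀ B s) ≠ 0 := by
        rw [← IsScalarTower.algebraMap_apply, IsScalarTower.algebraMap_apply B₀ z.ResidueField K]
        exact (_root_.map_ne_zero _).2 hs
      rw [(eq_mul_inv_iff_mul_eq₀ hs').2 ht']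
      exact S.mul_mem (hB _) (S.inv_mem (hB _))
    let M : IntermediateField z.ResidueField K := S.toIntermediateField hk
    have hθM : θ ∈ M := ⟨algebraMap P.Ring C' P.X ⊗ₜ 1, by
      rw [hρ, hχ, map_one, mul_one]; exact StandardEtalePair.lift_X _ _ _⟩
    have hk' := hθ M hθM
    have hy : ∀ t, algebraMap y.ResidueField K t ∈ M := fun t => by
      obtain ⟨a, s, hs, rfl⟩ := IsFractionRing.div_surjective (B ⧸ y) t
      obtain ⟨a, rfl⟩ := Ideal.Quotient.mk_surjective a
      obtain ⟨s, rfl⟩ := Ideal.Quotient.mk_surjective s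
      rw [map_div₀]
      refine S.div_mem ?_ ?_
      · rw [show algebraMap (B ⧸ y) y.ResidueField (Ideal.Quotient.mk y a) = algebraMap B y.ResidueField a from rfl,
          ← IsScalarTower.algebraMap_apply]
        exact hB a
      · rw [show algebraMap (B ⧸ y) y.ResidueField (Ideal.Quotient.mk y s) = algebraMap B y.ResidueField s from rfl,
          ← IsScalarTower.algebraMap_apply]
        exact hB s
    haveI hsepy : Algebra.IsSeparable y.ResidueField K := by
      haveI : x.LiesOver y := ⟨rfl⟩
      letI := Localization.AtPrime.algebraOfLiesOver y x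
      haveI : Algebra.IsUnramifiedAt B x :=
        (Algebra.FormallyEtale.iff_formallyUnramified_and_formallySmooth.mp ‹_›).1
      convert ((Algebra.isUnramifiedAt_iff_map_eq B y x).mp inferInstance).1
      refine Algebra.algebra_ext _ _ (RingHom.congr_fun (Ideal.ResidueField.ringHom_ext (RingHom.ext fun b => ?_)))
      show algebraMap y.ResidueField K (algebraMap B y.ResidueField b) = _
      rw [← IsScalarTower.algebraMap_apply]
      exact (Ideal.ResidueField.map_algebraMap y x (algebraMap B A) rfl b).symm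
    letI : Algebra y.ResidueField M := ((algebraMap y.ResidueField K).codRestrict M hy).toAlgebra
    haveI : IsScalarTower y.ResidueField M K := IsScalarTower.of_algebraMap_eq fun _ => rfl
    haveI : Algebra.IsSeparable M K := Algebra.isSeparable_tower_top_of_isSeparable y.ResidueField M K
    letI : Algebra (separableClosure z.ResidueField K) M := (IntermediateField.inclusion hk').toAlgebra
    haveI : IsScalarTower (separableClosure z.ResidueField K) M K := IsScalarTower.of_algebraMap_eq fun _ => rfl
    haveI : IsPurelyInseparable M K := IsPurelyInseparable.tower_top (separableClosure z.ResidueField K) M K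
    intro t
    obtain ⟨⟨_, b, rfl⟩, rfl⟩ := IsPurelyInseparable.surjective_algebraMap_of_isSeparable M K t
    exact ⟨b, rfl⟩
  let Q := x'.under T
  haveI : Algebra.IsEtaleAt C' Q := isEtaleAt_trivial hC'inj hTinj hGeq' x' hres hfix'
  -- descend
  letI : Algebra A₀ T := Algebra.TensorProduct.rightAlgebra
  haveI : IsScalarTower B₀ A₀ T := IsScalarTower.of_algebraMap_eq fun r =>
    (Algebra.TensorProduct.includeRight.commutes r).symm
  haveI : Algebra.FormallyEtale A₀ T := .of_equiv (Algebra.TensorProduct.commRight B₀ A₀ C')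
  haveI : Module.Flat A₀ T := .of_linearEquiv (Algebra.TensorProduct.commRight B₀ A₀ C').toLinearEquiv.symm
  let TQ := Localization.AtPrime Q
  haveI : Algebra.FormallyEtale T TQ := .of_isLocalization Q.primeCompl
  haveI : Algebra.IsEtaleAt A₀ Q := Algebra.FormallyEtale.comp A₀ T TQ
  haveI : Algebra.FormallyEtale B₀ TQ := Algebra.FormallyEtale.comp B₀ C' TQ
  haveI : Algebra.IsEtaleAt B₀ Q := ‹Algebra.FormallyEtale B₀ TQ›
  haveI : Q.LiesOver (x.under A₀) := ⟨by
    ext a
    show algebraMap A₀ A a ∈ x ↔ Φ (algebraMap T A' (1 ⊗ₜ a)) = 0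
    rw [hTA, hΦ, map_one, one_mul, hkerK]⟩
  have hflatA : Module.Flat A₀ TQ := Module.Flat.trans A₀ T TQ
  have hflatC : Module.Flat C' TQ := by
    haveI : Algebra.FinitePresentation C' T := Algebra.FinitePresentation.of_finiteType.1 inferInstance
    haveI : Q.LiesOver (Q.under C') := ⟨rfl⟩
    letI := Localization.AtPrime.algebraOfLiesOver (Q.under C') Q
    obtain ⟨hf, -⟩ := (GrothLib.LocProp.isEtaleAt_iff (Q.under C') Q).mp ‹_›
    exact Module.Flat.trans C' (Localization.AtPrime (Q.under C')) TQ
  haveI : Algebra.FinitePresentation B₀ A₀ := Algebra.FinitePresentation.of_finiteType.1 inferInstance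
  exact isEtaleAt_of_tower (x.under A₀) Q hflatA (Module.Flat.trans B₀ C' TQ)

end GrothLib.InvEtale1
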