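import Mathlib
import Groth.Agent.Lib.InvEtale1.Total
import Groth.Agent.Lib.InertiaEtale4.Core
import Groth.Agent.Lib.InertiaEtale4.Sep

/-!
# Invariants of an étale equivariant map with equal inertia
-/

set_option autoImplicit false

universe u

namespace GrothLib.InvEtale1

theorem flat_of_isEtaleAt {R A : Type u} [CommRing R] [CommRing A] [Algebra R A]
    [Algebra.FinitePresentation R A] (q : Ideal A) [q.IsPrime] [Algebra.IsEtaleAt R q] :
    Module.Flat R (Localization.AtPrime q) := by
  haveI : q.LiesOver (q.under R) := ⟨rfl⟩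
  letI := Localization.AtPrime.algebraOfLiesOver (q.under R) q
  obtain ⟨hf, -⟩ := (GrothLib.LocProp.isEtaleAt_iff (q.under R) q).mp ‹_›
  exact Module.Flat.trans R (Localization.AtPrime (q.under R)) _

theorem finite_invariants (R : Type u) [CommRing R] [IsNoetherianRing R] (A : Type u) [CommRing A]
    [Algebra R A] [Algebra.FiniteType R A] (G : Type u) [Group G] [Finite G] [MulSemiringAction G A]
    [SMulCommClass G R A] :
    Module.Finite (FixedPoints.subalgebra R A G) A ∧ Algebra.FiniteType R (FixedPoints.subalgebra R A G) := by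
  let A₀ := FixedPoints.subalgebra R A G
  haveI : Algebra.IsInvariant A₀ A G := ⟨fun a ha => ⟨⟨a, ha⟩, rfl⟩⟩
  haveI := Algebra.IsInvariant.isIntegral A₀ A G
  haveI : Algebra.FiniteType A₀ A := Algebra.FiniteType.of_restrictScalars_finiteType R A₀ A
  haveI : Module.Finite A₀ A := Algebra.IsIntegral.finite
  exact ⟨inferInstance, ⟨fg_of_fg_of_fg R A₀ A Algebra.FiniteType.out Module.Finite.fg_top Subtype.val_injective⟩⟩

/-- The invariants of a group are étale below a prime over the invariants of its inertia. -/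
theorem isEtaleAt_inertia (R : Type u) [CommRing R] [IsNoetherianRing R] {A : Type u} [CommRing A]
    [Algebra R A] [Algebra.FiniteType R A] (G : Type u) [Group G] [Finite G] [MulSemiringAction G A]
    [SMulCommClass G R A] (q : Ideal A) [q.IsPrime] (H : Subgroup G) (hH : q.inertia G = H)
    [Algebra (FixedPoints.subalgebra R A G) (FixedPoints.subalgebra R A H)]
    [IsScalarTower (FixedPoints.subalgebra R A G) (FixedPoints.subalgebra R A H) A]
    [IsScalarTower R (FixedPoints.subalgebra R A G) (FixedPoints.subalgebra R A H)] :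
    Algebra.IsEtaleAt (FixedPoints.subalgebra R A G) (q.under (FixedPoints.subalgebra R A H)) := by
  subst hH
  let A₀ := FixedPoints.subalgebra R A G
  let AI := FixedPoints.subalgebra R A (q.inertia G)
  obtain ⟨-, hft₀⟩ := finite_invariants R A G
  obtain ⟨-, hftI⟩ := finite_invariants R A (q.inertia G)
  haveI := hft₀
  haveI := hftI
  haveI : IsNoetherianRing A₀ := Algebra.FiniteType.isNoetherianRing R A₀
  haveI : Algebra.FiniteType A₀ AI := Algebra.FiniteType.of_restrictScalars_finiteType R A₀ AI
  haveI : Algebra.FinitePresentation A₀ AI := Algebra.FinitePresentation.of_finiteType.1 inferInstance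
  haveI : SMulCommClass G A₀ A := ⟨fun g r a => by
    show g • ((r : A) * a) = (r : A) * g • a
    rw [smul_mul', r.2 g]⟩
  haveI : Algebra.IsInvariant A₀ A G := ⟨fun a ha => ⟨⟨a, ha⟩, rfl⟩⟩
  obtain ⟨e, he, hsep⟩ := Groth.Agent.InertiaEtale4.exists_separating A₀ (G := G) q
  obtain ⟨b, hb, hbet⟩ := Groth.Agent.InertiaEtale4.exists_etale_away (A := A₀) (B := AI) (R := A) (G := G)
    Subtype.val_injective (IsScalarTower.toAlgHom A₀ AI A) Subtype.val_injective (q.inertia G)
    (fun r => ⟨fun ⟨b, hb⟩ h hh => hb ▸ b.2 ⟨h, hh⟩, fun h => ⟨⟨r, fun g => h g.1 g.2⟩, rfl⟩⟩)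
    q ⟨e, fun g => he g.1 g.2⟩ hsep
  exact Algebra.basicOpen_subset_etaleLocus_iff_etale.mpr hbet
    (show (⟨q.under AI, inferInstance⟩ : PrimeSpectrum AI) ∈ PrimeSpectrum.basicOpen b from hb)

theorem main (R : Type u) [CommRing R]
    [IsNoetherianRing R] (A B : Type u) [CommRing A] [CommRing B] [Algebra R A] [Algebra R B]
    [Algebra.FiniteType R A] [Algebra.FiniteType R B]
    (G : Type u) [Group G] [Finite G] [MulSemiringAction G A] [MulSemiringAction G B]
    [SMulCommClass G R A] [SMulCommClass G R B]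
    [Algebra B A] [IsScalarTower R B A]
    (hGeq : ∀ (g : G) (b : B), algebraMap B A (g • b) = g • algebraMap B A b)
    [Algebra (FixedPoints.subalgebra R B G) (FixedPoints.subalgebra R A G)]
    [IsScalarTower (FixedPoints.subalgebra R B G) (FixedPoints.subalgebra R A G) A]
    (x : Ideal A) [x.IsMaximal] (hx : Algebra.IsEtaleAt B x)
    (hin : x.inertia G = (x.comap (algebraMap B A)).inertia G) :
    Algebra.IsEtaleAt (FixedPoints.subalgebra R B G)
      (x.comap (algebraMap (FixedPoints.subalgebra R A G) A)) := by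
  let A₀ := FixedPoints.subalgebra R A G
  let B₀ := FixedPoints.subalgebra R B G
  let H := x.inertia G
  let AI := FixedPoints.subalgebra R A H
  let BI := FixedPoints.subalgebra R B H
  letI : Algebra A₀ AI := (Subalgebra.inclusion (fun a ha g => ha g.1 : A₀ ≤ AI)).toRingHom.toAlgebra
  letI : Algebra B₀ BI := (Subalgebra.inclusion (fun a ha g => ha g.1 : B₀ ≤ BI)).toRingHom.toAlgebra
  letI : Algebra BI AI := (((IsScalarTower.toAlgHom R B A).comp BI.val).codRestrict AI
    (fun b g => by
      show g.1 • algebraMap B A b = algebraMap B A b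
      rw [← hGeq]; exact congrArg _ (b.2 g))).toRingHom.toAlgebra
  haveI : IsScalarTower A₀ AI A := IsScalarTower.of_algebraMap_eq fun _ => rfl
  haveI : IsScalarTower B₀ BI B := IsScalarTower.of_algebraMap_eq fun _ => rfl
  haveI : IsScalarTower R A₀ AI := IsScalarTower.of_algebraMap_eq fun _ => rfl
  haveI : IsScalarTower R B₀ BI := IsScalarTower.of_algebraMap_eq fun _ => rfl
  haveI : IsScalarTower BI AI A := IsScalarTower.of_algebraMap_eq fun _ => rfl
  haveI : IsScalarTower BI B A := IsScalarTower.of_algebraMap_eq fun _ => rfl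
  haveI : IsScalarTower R BI AI := IsScalarTower.of_algebraMap_eq fun r => Subtype.ext
    (IsScalarTower.algebraMap_apply R B A r)
  letI : Algebra B₀ AI := ((algebraMap A₀ AI).comp (algebraMap B₀ A₀)).toAlgebra
  haveI : IsScalarTower B₀ A₀ AI := IsScalarTower.of_algebraMap_eq fun _ => rfl
  have hB₀A : ∀ r : B₀, ((algebraMap B₀ A₀ r : A₀) : A) = algebraMap B A (r : B) := fun r =>
    (IsScalarTower.algebraMap_apply B₀ A₀ A r).symm
  haveI : IsScalarTower B₀ BI AI := IsScalarTower.of_algebraMap_eq fun r => Subtype.ext (hB₀A r)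
  haveI : IsScalarTower R B₀ A₀ := IsScalarTower.of_algebraMap_eq fun r => Subtype.ext
    ((IsScalarTower.algebraMap_apply R B A r).trans (hB₀A (algebraMap R B₀ r)).symm)
  obtain ⟨hfinA, hftA⟩ := finite_invariants R A H
  obtain ⟨hfinB, hftB⟩ := finite_invariants R B H
  obtain ⟨-, hftA₀⟩ := finite_invariants R A G
  obtain ⟨-, hftB₀⟩ := finite_invariants R B G
  haveI := hfinA; haveI := hftA; haveI := hfinB; haveI := hftB; haveI := hftA₀; haveI := hftB₀
  haveI : IsNoetherianRing BI := Algebra.FiniteType.isNoetherianRing R BI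
  haveI : IsNoetherianRing B₀ := Algebra.FiniteType.isNoetherianRing R B₀
  haveI : IsNoetherianRing A₀ := Algebra.FiniteType.isNoetherianRing R A₀
  haveI : IsNoetherianRing AI := Algebra.FiniteType.isNoetherianRing R AI
  haveI : Algebra.FiniteType BI AI := Algebra.FiniteType.of_restrictScalars_finiteType R BI AI
  haveI : Algebra.FiniteType B₀ A₀ := Algebra.FiniteType.of_restrictScalars_finiteType R B₀ A₀
  haveI : Algebra.FiniteType B₀ BI := Algebra.FiniteType.of_restrictScalars_finiteType R B₀ BI
  haveI : Algebra.FiniteType A₀ AI := Algebra.FiniteType.of_restrictScalars_finiteType R A₀ AI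
  haveI : Algebra.FiniteType B₀ AI := Algebra.FiniteType.trans (S := BI) ‹_› inferInstance
  haveI : Algebra.FinitePresentation B₀ A₀ := Algebra.FinitePresentation.of_finiteType.1 inferInstance
  haveI : Algebra.FinitePresentation A₀ AI := Algebra.FinitePresentation.of_finiteType.1 inferInstance
  haveI : Algebra.FinitePresentation B₀ AI := Algebra.FinitePresentation.of_finiteType.1 inferInstance
  haveI : SMulCommClass H BI B := ⟨fun g r a => by
    show g • ((r : B) * a) = (r : B) * g • a
    rw [smul_mul', r.2 g]⟩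
  haveI : SMulCommClass H AI A := ⟨fun g r a => by
    show g • ((r : A) * a) = (r : A) * g • a
    rw [smul_mul', r.2 g]⟩
  haveI : Algebra.IsInvariant BI B H := ⟨fun a ha => ⟨⟨a, ha⟩, rfl⟩⟩
  haveI : Algebra.IsInvariant AI A H := ⟨fun a ha => ⟨⟨a, ha⟩, rfl⟩⟩
  haveI : Algebra.IsEtaleAt BI (x.under AI) :=
    isEtaleAt_total (G := H) (B := B) Subtype.val_injective Subtype.val_injective (fun g b => hGeq g.1 b) x
      (fun g a => g.2 a)
  haveI : Algebra.IsEtaleAt A₀ (x.under AI) := isEtaleAt_inertia R G x H rfl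
  haveI hB : Algebra.IsEtaleAt B₀ ((x.under B).under BI) := isEtaleAt_inertia R G (x.under B) H hin.symm
  haveI : (x.under AI).LiesOver ((x.under B).under BI) := ⟨rfl⟩
  haveI : Algebra.IsEtaleAt B₀ (x.under AI) := Algebra.IsEtaleAt.comp ((x.under B).under BI) (x.under AI)
  haveI : (x.under AI).LiesOver (x.under A₀) := ⟨rfl⟩
  exact isEtaleAt_of_tower (x.under A₀) (x.under AI) (flat_of_isEtaleAt _) (flat_of_isEtaleAt _)

end GrothLib.InvEtale1
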